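import Cfsg.Agent.Lib.CoNoughtStd.Model

/-!
# What commutes up to sign with a dodecad sign change is monomial

A vector of norm 64 all whose congruent vectors of norm 64 live on the dodecad or on its complement
has a single coordinate.
-/

set_option autoImplicit false
set_option maxRecDepth 100000
set_option linter.style.haveILetI false

namespace CfsgLib.CoOne

open Cfsg CfsgLib.Golay CfsgLib.Leech CfsgLib.CoNoughtStd CfsgLib.Leech.CoTwo CfsgLib.Leech.CoOne

open scoped Pointwise symmDiff

/-- Living on the dodecad or on its complement. -/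
def OnHalf (v : GolayPt → ℤ) : Prop :=
  (∀ p, p ∉ toSet baseDodecad → v p = 0) ∨ (∀ p, p ∈ toSet baseDodecad → v p = 0)

/-- A vector of the lattice on an octad with given signs on four points. -/
theorem exists_octad_signed {O T : Finset GolayPt} (hO : O ∈ octads) (hT : T ⊆ O) {q : GolayPt}
    (hq : q ∈ O) (hqT : q ∉ T) (σ : GolayPt → Bool) :
    ∃ u : leechLattice, (∀ p ∈ T, (u : GolayPt → ℤ) p = if σ p then -2 else 2) ∧
      (∀ p, p ∉ O → (u : GolayPt → ℤ) p = 0) ∧
      ∀ p ∈ O, (u : GolayPt → ℤ) p = 2 ∨ (u : GolayPt → ℤ) p = -2 := by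
  classical
  set N := T.filter fun p => σ p
  let M : Finset GolayPt := if Even N.card then N else insert q N
  have hM : Even M.card := by
    show Even (if Even N.card then N else insert q N).card
    split_ifs with h
    · exact h
    · rw [Finset.card_insert_of_notMem (fun hm => hqT (Finset.mem_filter.1 hm).1)]
      exact Nat.even_add_one.2 h
  have hMO : M ⊆ O := by
    show (if Even N.card then N else insert q N) ⊆ O
    split_ifs
    · exact fun p hp => hT (Finset.mem_filter.1 hp).1
    · exact Finset.insert_subset hq fun p hp => hT (Finset.mem_filter.1 hp).1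
  have hMT : ∀ p ∈ T, p ∈ M ↔ σ p = true := by
    intro p hp
    show p ∈ (if Even N.card then N else insert q N) ↔ _
    split_ifs
    · simp [N, hp]
    · simp [N, hp, show p ≠ q from fun h => hqT (h ▸ hp)]
  let v : GolayPt → ℤ := fun p => 2 * indi O p + 4 * -(indi M p)
  have hv : v ∈ leechLattice := by
    refine mem_leechLattice_iff_form.2 ⟨⟨0, O, fun p => -(indi M p), hO.1, fun p => by simp [v], ?_⟩⟩
    simp only [v, Finset.sum_add_distrib, ← Finset.mul_sum, Finset.sum_neg_distrib, sum_indi]
    obtain ⟨k, hk⟩ := hM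
    have h8 : O.card = 8 := hO.2
    rw [h8, hk]
    simp only [Int.ModEq]
    push_cast
    omega
  refine ⟨⟨v, hv⟩, fun p hp => ?_, fun p hp => ?_, fun p hp => ?_⟩
  · show v p = _
    simp only [v, indi, hT hp, if_true, hMT p hp]
    cases σ p <;> simp
  · show v p = _
    simp [v, indi, hp, show p ∉ M from fun h => hp (hMO h)]
  · show v p = _ ∨ v p = _
    simp only [v, indi, hp, if_true]
    split <;> simp

theorem baseDodecad_code : CodeSet (toSet baseDodecad) := codeOf words_ok.2.2.1

theorem card_baseDodecad : (toSet baseDodecad).card = 12 := by rw [card_toSet]; decide +kernel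

/-- A code set inside a dodecad is empty or the dodecad. -/
theorem code_in_dodecad {C D : Finset GolayPt} (hC : CodeSet C) (hD : CodeSet D) (h12 : D.card = 12)
    (h : C ⊆ D) : C = ∅ ∨ C = D := by
  by_contra hne
  push Not at hne
  have h1 := eight_le_card hC hne.1
  have h2 := codeSet_symmDiff hC hD
  have e : C ∆ D = D \ C := symmDiff_of_le h
  rw [e] at h2
  have h3 : (D \ C).Nonempty := Finset.sdiff_nonempty.2 fun hs => hne.2 (Finset.Subset.antisymm h hs)
  have := eight_le_card h2 h3
  rw [Finset.card_sdiff_of_subset h, h12] at this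
  omega

theorem single_of_half {w : leechLattice} (hn : sqNorm (w : GolayPt → ℤ) = 64)
    (hall : ∀ y ∈ leechEven.cls8 w, OnHalf (y : GolayPt → ℤ)) : w ∈ stdSet := by
  classical
  have hb : leechEven.b w w = 8 := inner_self_of_norm (by rw [hn]; norm_num)
  obtain ⟨D, hD, h12, hDc, hsup⟩ : ∃ D : Finset GolayPt, CodeSet D ∧ D.card = 12 ∧
      (∀ v : GolayPt → ℤ, OnHalf v → (∀ p, p ∉ D → v p = 0) ∨ ∀ p ∈ D, v p = 0) ∧
      ∀ p, p ∉ D → (w : GolayPt → ℤ) p = 0 := by
    rcases hall w (self_mem_cls8 hb) with h | h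
    · exact ⟨_, baseDodecad_code, card_baseDodecad, fun _ hv => hv, h⟩
    · refine ⟨Finset.univ \ toSet baseDodecad, codeSet_compl baseDodecad_code, ?_,
        fun v hv => hv.symm.imp (fun h p hp => h p (by simpa using hp)) fun h p hp => h p (by simpa using hp),
        fun p hp => h p (by simpa using hp)⟩
      rw [Finset.card_sdiff_of_subset (Finset.subset_univ _), card_baseDodecad, Finset.card_univ, card_golayPt]
  obtain ⟨m, hpar, -, hcode⟩ := mem_leechLattice_iff.1 w.2
  set wv : GolayPt → ℤ := (w : GolayPt → ℤ) with hwv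
  obtain ⟨r, hr⟩ : ∃ r, r ∉ D := by
    by_contra h
    push Not at h
    have := Finset.card_le_card (fun p _ => h p : (Finset.univ : Finset GolayPt) ⊆ D)
    rw [Finset.card_univ, card_golayPt, h12] at this
    omega
  have heven : ∀ p, wv p % 2 = 0 := fun p => by
    have h1 : wv p % 2 = m % 2 := hpar p
    have h2 : wv r % 2 = m % 2 := hpar r
    rw [hsup r hr] at h2
    omega
  set C := Finset.univ.filter fun i => wv i ≡ 2 [ZMOD 4] with hC
  have hCD : C ⊆ D := fun p hp => by
    by_contra h
    have := (Finset.mem_filter.1 hp).2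
    rw [hsup p h] at this
    exact absurd this (by decide)
  have hCc : CodeSet C := hcode 2
  rcases code_in_dodecad hCc hD h12 hCD with e | e
  swap
  · exfalso
    have h1 : ∀ p ∈ D, (32 : ℤ) ∣ wv p ^ 2 - 4 := fun p hp => by
      have hpC : p ∈ C := by rw [e]; exact hp
      have h : wv p ≡ 2 [ZMOD 4] := (Finset.mem_filter.1 hpC).2
      obtain ⟨k, hk⟩ := (Int.modEq_iff_dvd.1 h.symm)
      have : wv p = 4 * k + 2 := by omega
      obtain ⟨j, hj⟩ := Int.even_mul_succ_self k
      exact ⟨j, by rw [this]; linear_combination 16 * hj⟩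
    have h2 : sqNorm wv = ∑ p ∈ D, (wv p ^ 2 - 4) + 48 := by
      rw [Finset.sum_sub_distrib, Finset.sum_const, h12, sqNorm_split wv D,
        Finset.sum_eq_zero (s := Dᶜ) fun p hp => by rw [hsup p (Finset.mem_compl.1 hp)]; ring]
      simp
    have h3 := Finset.dvd_sum h1
    rw [hn] at h2
    omega
  have h4 : ∀ p, (4 : ℤ) ∣ wv p := fun p => by
    have h : ¬ wv p ≡ 2 [ZMOD 4] := fun h => by
      have : p ∈ C := Finset.mem_filter.2 ⟨Finset.mem_univ _, h⟩
      simp [e] at this
    have := heven p
    simp only [Int.ModEq] at h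
    omega
  choose y hy using h4
  have hy4 : ∑ p, y p ^ 2 = 4 := by
    have h : sqNorm wv = 16 * ∑ p, y p ^ 2 := by
      rw [sqNorm, Finset.mul_sum]
      exact Finset.sum_congr rfl fun p _ => by rw [hy p]; ring
    rw [hn] at h
    omega
  by_cases hbig : ∃ p, y p ≠ 0 ∧ y p ≠ 1 ∧ y p ≠ -1
  · obtain ⟨p, hp0, hp1, hp2⟩ := hbig
    have hle := Finset.single_le_sum (fun i _ => sq_nonneg (y i)) (Finset.mem_univ p)
    rw [hy4] at hle
    have hp : y p = 2 ∨ y p = -2 := by
      rcases lt_trichotomy (y p) 0 with h | h | h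
      · refine Or.inr (le_antisymm (by omega) ?_)
        by_contra h3
        nlinarith [(by omega : y p ≤ -3)]
      · exact absurd h hp0
      · refine Or.inl (le_antisymm ?_ (by omega))
        by_contra h3
        nlinarith [(by omega : 3 ≤ y p)]
    have hrest : ∀ q, q ≠ p → y q = 0 := fun q hq => by
      have h := Finset.add_sum_erase _ (fun i => y i ^ 2) (Finset.mem_univ p)
      rw [hy4] at h
      have h2 : y p ^ 2 = 4 := by rcases hp with e | e <;> rw [e] <;> norm_num
      rw [h2] at h
      have h3 := (Finset.sum_eq_zero_iff_of_nonneg fun i _ => sq_nonneg (y i)).1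
        (by omega : ∑ i ∈ Finset.univ.erase p, y i ^ 2 = 0) q (Finset.mem_erase.2 ⟨hq, Finset.mem_univ q⟩)
      exact pow_eq_zero_iff (n := 2) (by norm_num) |>.1 h3
    refine ⟨p, 4 * y p, by omega, funext fun q => ?_⟩
    rcases eq_or_ne q p with rfl | hq
    · rw [Pi.single_eq_same]; exact hy q
    · rw [Pi.single_eq_of_ne hq]
      show wv q = 0
      rw [hy q, hrest q hq, mul_zero]
  exfalso
  push Not at hbig
  set T := Finset.univ.filter fun p => y p ≠ 0 with hT
  have hT4 : T.card = 4 := by
    have h : ∑ p, y p ^ 2 = T.card := by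
      rw [← Finset.sum_filter_ne_zero, Finset.card_eq_sum_ones, Nat.cast_sum]
      refine Finset.sum_congr (by ext p; simp [T]) fun p hp => ?_
      have : y p ≠ 0 := by simpa [T] using hp
      by_cases h1 : y p = 1
      · rw [h1]; norm_num
      · rw [hbig p this h1]; norm_num
    omega
  have hTD : T ⊆ D := fun p hp => by
    by_contra h
    have := hy p
    rw [hsup p h] at this
    exact (Finset.mem_filter.1 hp).2 (by omega)
  obtain ⟨q, hq⟩ : (D \ T).Nonempty := by
    rw [← Finset.card_pos, Finset.card_sdiff_of_subset hTD, h12, hT4]; norm_num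
  rw [Finset.mem_sdiff] at hq
  obtain ⟨g, hg, hsub⟩ := exists_octad_map (insert q T) (by rw [Finset.card_insert_of_notMem hq.2, hT4])
  set O := g • toSet baseOctad
  have hO : O ∈ octads := octads_smul hg baseOctad_mem
  have h8 : O.card = 8 := hO.2
  have hTO : T ⊆ O := fun p hp => hsub (Finset.mem_insert_of_mem hp)
  have hqO : q ∈ O := hsub (Finset.mem_insert_self q T)
  obtain ⟨s, hsO, hsD⟩ : ∃ s ∈ O, s ∉ D := by
    by_contra h
    push Not at h
    rcases code_in_dodecad hO.1 hD h12 h with e' | e' <;> rw [e'] at h8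
    · simp at h8
    · omega
  obtain ⟨u, huT, huO, huV⟩ := exists_octad_signed hO hTO hqO hq.2 fun p => decide (wv p < 0)
  let w' : leechLattice := w - (2 : ℤ) • u
  have hw' : ∀ p, (w' : GolayPt → ℤ) p = wv p - 2 * (u : GolayPt → ℤ) p := fun p => by
    show ((w - (2 : ℤ) • u : leechLattice) : GolayPt → ℤ) p = _
    rw [AddSubgroup.coe_sub, Pi.sub_apply, AddSubgroup.coe_zsmul, Pi.smul_apply, smul_eq_mul]
  have hzero : ∀ p, p ∉ T → wv p = 0 := fun p hp => by
    have : y p = 0 := by simpa [T] using hp
    rw [hy p, this, mul_zero]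
  have hval : ∀ p, (w' : GolayPt → ℤ) p ^ 2 = if p ∈ O \ T then 16 else 0 := by
    intro p
    rw [hw']
    by_cases hpT : p ∈ T
    · have hy1 : y p = 1 ∨ y p = -1 := by
        have := (Finset.mem_filter.1 hpT).2
        by_cases h1 : y p = 1
        · exact Or.inl h1
        · exact Or.inr (hbig p this h1)
      rw [huT p hpT, if_neg (fun h => (Finset.mem_sdiff.1 h).2 hpT)]
      rcases hy1 with h | h <;> rw [hy p, h] <;> norm_num
    · by_cases hpO : p ∈ O
      · rw [if_pos (Finset.mem_sdiff.2 ⟨hpO, hpT⟩), hzero p hpT]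
        rcases huV p hpO with h | h <;> rw [h] <;> norm_num
      · rw [if_neg (fun h => hpO (Finset.mem_sdiff.1 h).1), hzero p hpT, huO p hpO]
        norm_num
  have hn' : sqNorm (w' : GolayPt → ℤ) = 64 := by
    rw [sqNorm, Finset.sum_congr rfl fun p _ => hval p, Finset.sum_ite_mem, Finset.univ_inter,
      Finset.sum_const, Finset.card_sdiff_of_subset hTO, h8, hT4]
    norm_num
  have hne : ∀ p ∈ O \ T, (w' : GolayPt → ℤ) p ≠ 0 := fun p hp h0 => by
    have := hval p
    rw [if_pos hp, h0] at this
    norm_num at this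
  have hcls : w' ∈ leechEven.cls8 w :=
    ⟨inner_self_of_norm (by rw [hn']; norm_num), ⟨u, by show (2 : ℤ) • u = w - w'; simp [w']⟩⟩
  rcases hDc _ (hall w' hcls) with h | h
  · exact hne s (Finset.mem_sdiff.2 ⟨hsO, fun hs => hsD (hTD hs)⟩) (h s hsD)
  · exact hne q (Finset.mem_sdiff.2 ⟨hqO, hq.2⟩) (h q hq.1)

theorem dEl_coe (v : leechLattice) (p : GolayPt) :
    ((dEl • v : leechLattice) : GolayPt → ℤ) p =
      if p ∈ toSet baseDodecad then -(v : GolayPt → ℤ) p else (v : GolayPt → ℤ) p := by
  rw [dEl, eM, coe_monoAut_smul]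
  simp [signedPerm, Equiv.Perm.one_def]

theorem onHalf_iff (v : leechLattice) : OnHalf (v : GolayPt → ℤ) ↔ dEl • v = v ∨ dEl • v = -v := by
  constructor
  · rintro (h | h)
    · refine Or.inr (Subtype.ext (funext fun p => ?_))
      rw [dEl_coe, AddSubgroup.coe_neg, Pi.neg_apply]
      split_ifs with hp
      · rfl
      · rw [h p hp, neg_zero]
    · refine Or.inl (Subtype.ext (funext fun p => ?_))
      rw [dEl_coe]
      split_ifs with hp
      · rw [h p hp, neg_zero]
      · rfl
  · rintro (h | h)
    · refine Or.inr fun p hp => ?_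
      have := congrArg (fun w : leechLattice => (w : GolayPt → ℤ) p) h
      simp only [dEl_coe, if_pos hp] at this
      omega
    · refine Or.inl fun p hp => ?_
      have := congrArg (fun w : leechLattice => (w : GolayPt → ℤ) p) h
      simp only [dEl_coe, if_neg hp, AddSubgroup.coe_neg, Pi.neg_apply] at this
      omega

/-- The centraliser up to sign is monomial. -/
theorem mem_crossStab_of_dEl {g : Co0} (h : g * dEl = dEl * g ∨ g * dEl = negAut * (dEl * g)) :
    g ∈ crossStab := by
  have hmove : ∀ v : leechLattice, OnHalf (v : GolayPt → ℤ) →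
      OnHalf ((g • v : leechLattice) : GolayPt → ℤ) := fun v hv => by
    rw [onHalf_iff] at hv ⊢
    have hneg : negAut * negAut = (1 : Co0) := negAut_sq
    rcases h with e | e
    · rw [← mul_smul, ← e, mul_smul]
      rcases hv with h1 | h1 <;> rw [h1]
      · exact Or.inl rfl
      · exact Or.inr (smul_neg' g v)
    · have e' : dEl * g = negAut * (g * dEl) := by rw [e, ← mul_assoc, hneg, one_mul]
      rw [← mul_smul, e', mul_smul, mul_smul, show ∀ v : leechLattice, negAut • v = -v from fun v => Subtype.ext (coe_negAut_smul v)]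
      rcases hv with h1 | h1 <;> rw [h1]
      · exact Or.inr rfl
      · exact Or.inl (by rw [smul_neg', neg_neg])
  have hstd : ∀ v ∈ stdSet, OnHalf (v : GolayPt → ℤ) := by
    rintro v ⟨p, t, -, hv⟩
    by_cases hp : p ∈ toSet baseDodecad
    · exact Or.inl fun q hq => by rw [hv, Pi.single_eq_of_ne (fun e => hq (by rw [e]; exact hp))]
    · exact Or.inr fun q hq => by rw [hv, Pi.single_eq_of_ne (fun e => hp (by rw [← e]; exact hq))]
  have hw : g • baseVec ∈ stdSet := by
    refine single_of_half (by rw [sqNorm_smul_co, baseVec, coe_axisVec, sqNorm_single]; norm_num) ?_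
    intro y hy
    rw [← smul_cls8, ← stdSet_eq_cls8] at hy
    obtain ⟨v, hv, rfl⟩ := hy
    exact hmove v (hstd v hv)
  show g • stdSet = stdSet
  rw [stdSet_eq_cls8, smul_cls8]
  rw [stdSet_eq_cls8] at hw
  exact cls8_eq hw

end CfsgLib.CoOne
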