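import Cfsg.Agent.Lib.Golay.Code
import Cfsg.Agent.Lib.Golay.M24

/-!
# The two levels of the recursion inside the code

The code modulo the full word, numbered by eleven bits; which numbers are octads up to complement.
-/

set_option autoImplicit false
set_option maxRecDepth 100000
set_option maxHeartbeats 0

namespace CfsgLib.CoOne

open CfsgLib.Golay

/-- Eleven words spanning the code with the full word. -/
def endBasis : List ℕ :=
  [4845570, 13938692, 7221256, 10170384, 8077824, 11654144, 11952160, 15515712, 2019456, 4038912, 14919680]

/-- The word of a number. -/
def endWord : List ℕ → ℕ → ℕ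
  | [], _ => 0
  | b :: bs, i => (if i.testBit 0 then b else 0) ^^^ endWord bs (i / 2)

theorem endWord_xor : ∀ (bs : List ℕ) (i j : ℕ), endWord bs (i ^^^ j) = endWord bs i ^^^ endWord bs j
  | [], _, _ => by simp [endWord]
  | b :: bs, i, j => by
    simp only [endWord, Nat.testBit_xor, Nat.xor_div_two, endWord_xor bs]
    cases i.testBit 0 <;> cases j.testBit 0 <;>
      simp [Nat.xor_assoc, Nat.xor_comm, Nat.xor_left_comm]

/-- The word numbered `i`. -/
def word (i : ℕ) : ℕ := endWord endBasis i

/-- The numbers of octads up to complement. -/
def octTab : ℕ := 32060943854211553417184804752174663989182927269083389183722351005098244938634859530321144670783744850668138159611221244016990115918885131209612058182007068255806260403341353085784064993914037321798089833498928634646224541364580337634484636592221243510111278490377088421029629129568474208009688781692183650992833088172101888083711325512316012104041005461200476384428974551576708787294142389458011124980839475952258009685384312415322074192607888102524827451774746742623753257811189294826256782098695387827247683477662649836630786436675534700073896384431610862064855067382912221906597954858132979876355713006781433896830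

/-- An octad up to complement. -/
def oct (i : ℕ) : Bool := octTab.testBit i

/-- The number of the dodecad. -/
def iD : ℕ := 1376

/-- The numbers of the two octads of the root. -/
def iA : ℕ := 6

/-- See `iA`. -/
def iB : ℕ := 1

/-- The three checks at a number: weight and membership, -/
def wordOk (i : ℕ) : Bool :=
  inCode (word i) && Nat.blt (word i) 16777216 &&
    (if oct i then bitCount (word i) == 8 || bitCount (word i) == 16
      else bitCount (word i) == 12 || i == 0)

theorem word_ok : ((List.range 2048).all wordOk) = true := by decide +kernel

theorem named_ok : (word iD == baseDodecad ^^^ 16777215 && oct iA && oct (iA ^^^ iD) && oct iB && !oct (iB ^^^ iD) &&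
    Nat.blt iD 2048 && Nat.blt iA 2048 && Nat.blt iB 2048) = true := by decide +kernel

/-- The numbers of the words of the basis of the code. -/
def basisIdx : List ℕ := [2047, 1, 2, 4, 8, 16, 32, 64, 128, 256, 512, 1024]

theorem basis_ok : ((List.range 12).all fun k => Nat.blt (basisIdx.getD k 0) 2048 &&
    (word (basisIdx.getD k 0) == golayBasis.getD k 0 ||
      word (basisIdx.getD k 0) == golayBasis.getD k 0 ^^^ 16777215)) = true := by decide +kernel

/-- The first number below the root with all translates octads, resp. all but the one by the dodecad. -/
def findPair (s : ℕ) (t : Bool) : Option ℕ :=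
  (List.range 2048).find? fun i => oct i && (oct (i ^^^ iD) == t) && oct (i ^^^ s) && oct (i ^^^ (s ^^^ iD))

/-- The condition on a third element of the class below the root. -/
def restOk (s a : ℕ) : Bool :=
  (List.range 2048).all fun d =>
    if oct d && oct (d ^^^ s) && oct (d ^^^ (s ^^^ iD)) then
      (a ^^^ d == 0 || a ^^^ d == iD || a ^^^ d == s || a ^^^ d == s ^^^ iD) ||
        (oct (a ^^^ d) || oct (iD ^^^ (a ^^^ d)) || oct (s ^^^ (a ^^^ d)) || oct (s ^^^ iD ^^^ (a ^^^ d)))
    else true

/-- The condition on a middle element of the root. -/
def kidOk (c : ℕ) : Bool :=
  if oct c && !(iA ^^^ c == 0) && !(iA ^^^ c == iD) && !oct (iA ^^^ c) && !oct (iD ^^^ (iA ^^^ c)) then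
    match findPair (iA ^^^ c) true, findPair (iA ^^^ c) false with
    | some a, some _ => restOk (iA ^^^ c) a
    | _, _ => false
  else true

theorem kids_ok : ((List.range 2048).all kidOk) = true := by decide +kernel

end CfsgLib.CoOne
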