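import Cfsg.Agent.Lib.CoOne.EndTwo
import Cfsg.Agent.Lib.CoOne.EndCode
import Cfsg.Agent.Lib.CoOne.EndCent
import Cfsg.Agent.Lib.HNRec.Tree
import Cfsg.Agent.Lib.Leech.ConwaySimple.Perm

/-!
# A group of Conway type containing the first Conway group with the whole involution centraliser

The image of the first Conway group is everything: it controls the three classes of involutions, and
the centraliser of the dodecad class lies inside it.
-/

set_option autoImplicit false
set_option maxRecDepth 100000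
set_option linter.style.haveILetI false

namespace CfsgLib.CoOne

open Cfsg CfsgLib.Golay CfsgLib.Leech CfsgLib.CoNoughtStd CfsgLib.Leech.CoTwo CfsgLib.Leech.CoOne
  CfsgLib.HNRec

open scoped Pointwise symmDiff

/-! ### The elementary abelian subgroup in the model -/

theorem word_spec {i : ℕ} (hi : i < 2048) : inCode (word i) = true ∧ word i < 2 ^ 24 ∧
    if oct i then bitCount (word i) = 8 ∨ bitCount (word i) = 16 else bitCount (word i) = 12 ∨ i = 0 := by
  have h := List.all_eq_true.1 word_ok i (List.mem_range.2 hi)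
  simp only [wordOk, Bool.and_eq_true, Nat.blt_eq] at h
  refine ⟨h.1.1, h.1.2, ?_⟩
  cases ho : oct i <;> simpa [ho] using h.2

/-- The element numbered `i`. -/
noncomputable def el (i : ℕ) : Spor.Co1 :=
  if h : inCode (word i) = true then mkOne (eM (word i) h) else 1

theorem el_eq {i : ℕ} (hi : i < 2048) : el i = mkOne (eM (word i) (word_spec hi).1) := dif_pos _

theorem el_mul {i j : ℕ} (hi : i < 2048) (hj : j < 2048) : el i * el j = el (i ^^^ j) := by
  have hk : i ^^^ j < 2048 := Nat.xor_lt_two_pow (n := 11) hi hj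
  rw [el_eq hi, el_eq hj, el_eq hk, ← map_mul, eM_mul]
  exact (endWord_xor endBasis i j).symm

theorem el_zero : el 0 = 1 := by
  rw [el_eq (by norm_num), show eM (word 0) (word_spec (by norm_num)).1 = 1 from
    (eM_congr (m := 0) (hm := by decide +kernel) (by decide +kernel)).trans (eM_zero _), map_one]

theorem el_sq {i : ℕ} (hi : i < 2048) : el i * el i = 1 := by rw [el_mul hi hi, Nat.xor_self, el_zero]

/-- The sign changes. -/
noncomputable def signGrp : Subgroup Spor.Co1 where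
  carrier := {v | ∃ i < 2048, v = el i}
  one_mem' := ⟨0, by norm_num, el_zero.symm⟩
  mul_mem' := by
    rintro _ _ ⟨i, hi, rfl⟩ ⟨j, hj, rfl⟩
    exact ⟨i ^^^ j, Nat.xor_lt_two_pow (n := 11) hi hj, el_mul hi hj⟩
  inv_mem' := by
    rintro _ ⟨i, hi, rfl⟩
    exact ⟨i, hi, inv_eq_of_mul_eq_one_right (el_sq hi)⟩

theorem mkOne_full (h : inCode fullM = true) : mkOne (eM fullM h) = 1 := by
  rw [eM_full]; exact (QuotientGroup.eq_one_iff _).2 negAut_central

theorem golay_indexed {n : ℕ} (hn : n ∈ golayList) : ∃ i < 2048, word i = n ∨ word i = n ^^^ fullM := by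
  refine spanList_induction (P := fun n => ∃ i < 2048, word i = n ∨ word i = n ^^^ fullM)
    ⟨0, by norm_num, Or.inl (by decide +kernel)⟩ (bs := golayBasis) ?_ n hn
  rintro b hb m ⟨i, hi, hm⟩
  obtain ⟨k, hk, rfl⟩ := List.mem_iff_getElem.1 hb
  have hk' : k < 12 := hk
  have h := List.all_eq_true.1 basis_ok k (List.mem_range.2 hk')
  simp only [Bool.and_eq_true, Nat.blt_eq, Bool.or_eq_true, beq_iff_eq, List.getD_eq_getElem (d := 0) (hn := hk)] at h
  refine ⟨basisIdx.getD k 0 ^^^ i, Nat.xor_lt_two_pow (n := 11) h.1 hi, ?_⟩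
  rw [word, endWord_xor, ← word, ← word]
  rcases h.2 with e | e <;> rcases hm with e' | e' <;> rw [e, e']
  · exact Or.inl rfl
  · exact Or.inr (Nat.xor_assoc _ _ _).symm
  · exact Or.inr (by rw [Nat.xor_assoc, Nat.xor_assoc, Nat.xor_comm _ m]; rfl)
  · refine Or.inl ?_
    show _ ^^^ fullM ^^^ (m ^^^ fullM) = _
    rw [Nat.xor_comm m fullM, Nat.xor_assoc, ← Nat.xor_assoc fullM, Nat.xor_self, Nat.zero_xor]

theorem sign_mem {s : Finset GolayPt} (hs : CodeSet s) :
    mkOne (monoAut 1 (one_mem M24) s hs) ∈ signGrp := by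
  obtain ⟨n, hn, rfl⟩ := mem_supports.1 hs
  obtain ⟨i, hi, h⟩ := golay_indexed hn
  refine ⟨i, hi, ?_⟩
  have hc : inCode n = true := ConwaySimple.inCode_golayList n hn
  rw [el_eq hi]
  show mkOne (eM n hc) = _
  rcases h with e | e
  · rw [eM_congr (hn := (word_spec hi).1) (hm := hc) e]
  · have hf := words_ok.2.1
    have he : inCode (n ^^^ fullM) = true := e ▸ (word_spec hi).1
    rw [eM_congr (hn := (word_spec hi).1) (hm := he) e, ← eM_mul hc hf he rfl, map_mul, mkOne_full,
      mul_one]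

/-- The dodecad element. -/
noncomputable def dOne : Spor.Co1 := mkOne dEl

theorem el_iD : el iD = dOne := by
  have h := named_ok
  simp only [Bool.and_eq_true, beq_iff_eq, Nat.blt_eq] at h
  obtain ⟨⟨⟨⟨⟨⟨⟨hw, -⟩, -⟩, -⟩, -⟩, hi⟩, -⟩, -⟩ := h
  have hd := words_ok.2.2.1
  have he : inCode (baseDodecad ^^^ fullM) = true := by decide +kernel
  rw [el_eq hi, eM_congr (hn := (word_spec hi).1) (hm := he) hw, ← eM_mul hd words_ok.2.1 he rfl, map_mul,
    mkOne_full, mul_one]
  rfl

/-- What centralises the dodecad element normalises the sign changes. -/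
theorem norm_sign {k : Spor.Co1} (hk : Commute k dOne) {e : Spor.Co1} (he : e ∈ signGrp) :
    k * e * k⁻¹ ∈ signGrp := by
  obtain ⟨g, rfl⟩ := QuotientGroup.mk'_surjective (Subgroup.center Co0) k
  have h : mkOne (g * dEl) = mkOne (dEl * g) := by rw [map_mul, map_mul]; exact hk.eq
  obtain ⟨σ, hσ, c, hc, rfl⟩ := exists_monoAut_of_mem (mem_crossStab_of_dEl (mkOne_eq.1 h))
  obtain ⟨i, hi, rfl⟩ := he
  rw [el_eq hi]
  set s := toSet (word i)
  have hs' : CodeSet (σ • s) := supports_smul hσ (codeOf (word_spec hi).1)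
  have e : monoAut σ hσ c hc * eM (word i) (word_spec hi).1 =
      monoAut 1 (one_mem M24) (σ • s) hs' * monoAut σ hσ c hc := by
    rw [eM, monoAut_mul, monoAut_mul]
    exact monoAut_congr ((mul_one σ).trans (one_mul σ).symm) (by rw [one_smul, symmDiff_comm])
  have : mkOne (monoAut σ hσ c hc) * mkOne (eM (word i) (word_spec hi).1) * (mkOne (monoAut σ hσ c hc))⁻¹ =
      mkOne (monoAut 1 (one_mem M24) (σ • s) hs') := by
    rw [← map_mul, e, map_mul, mul_inv_cancel_right]
  show mkOne _ * _ * (mkOne _)⁻¹ ∈ signGrp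
  rw [this]
  exact sign_mem hs'

/-! ### The classes -/

theorem zOne_sq : zOne * zOne = 1 := by rw [zOne, ← map_mul, tAut_mul_self, map_one]

theorem dOne_sq : dOne * dOne = 1 := by rw [dOne, ← map_mul, dEl, eM_sq, map_one]

/-- The element with lifts of order four. -/
noncomputable def fOne : Spor.Co1 := mkOne fEl

theorem dOne_not_z : ¬ IsConj zOne dOne := fun h => by
  rcases lift_conj h with k | k
  · exact not_s_dEl k
  · exact not_s_dEl (k.trans dEl_neg.symm)

theorem el_class {i : ℕ} (hi : i < 2048) : IsConj zOne (el i) ↔ oct i = true := by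
  obtain ⟨hc, hl, hw⟩ := word_spec hi
  constructor
  · intro h
    by_contra ho
    rw [Bool.not_eq_true] at ho
    rw [ho] at hw
    simp only [Bool.false_eq_true, if_false] at hw
    rcases hw with h12 | rfl
    · refine dOne_not_z (h.trans ?_)
      rw [el_eq hi]
      exact (mkOne : Co0 →* Spor.Co1).map_isConj (twelve_conj (eM_dodecad hc h12))
    · rw [el_zero] at h
      exact zOne_ne_one (isConj_one_left.1 h)
  · intro ho
    rw [ho] at hw
    simp only [if_true] at hw
    have key : ∀ n (hn : inCode n = true), bitCount n = 8 → IsConj zOne (mkOne (eM n hn)) := by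
      intro n hn h8
      have h : zOne = mkOne (negAut * tAut) := by
        rw [map_mul, show mkOne negAut = 1 from (QuotientGroup.eq_one_iff _).2 negAut_central, one_mul]; rfl
      rw [h]
      exact (mkOne : Co0 →* Spor.Co1).map_isConj (eM_octad hn h8)
    rw [el_eq hi]
    rcases hw with h8 | h16
    · exact key _ hc h8
    · have hx : inCode (word i ^^^ fullM) = true := by
        obtain ⟨j, hj⟩ : ∃ j, j = word i ^^^ fullM := ⟨_, rfl⟩
        have hm : word i ^^^ fullM ∈ golayList :=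
          xor_mem_spanList (mem_golayList_of_inCode hc) (mem_golayList_of_inCode words_ok.2.1)
        exact ConwaySimple.inCode_golayList _ hm
      have h8 : bitCount (word i ^^^ fullM) = 8 := by
        rw [← card_toSet, toSet_xor]
        have hu : toSet fullM = Finset.univ := by decide +kernel
        rw [hu, ← card_toSet] at *
        have e : toSet (word i) ∆ Finset.univ = Finset.univ \ toSet (word i) := symmDiff_of_le (Finset.subset_univ _)
        rw [e, Finset.card_sdiff_of_subset (Finset.subset_univ _), Finset.card_univ, card_golayPt, h16]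
      have := key _ hx h8
      rwa [← eM_mul hc words_ok.2.1 hx rfl, map_mul, mkOne_full, mul_one] at this

theorem z_mul_four {u : Spor.Co1} (hu : IsConj fOne u) (hc : Commute zOne u) : IsConj fOne (zOne * u) := by
  obtain ⟨v, hv⟩ := isConj_iff.1 hu
  obtain ⟨g, rfl⟩ := QuotientGroup.mk'_surjective (Subgroup.center Co0) v
  set a := g * fEl * g⁻¹ with ha
  have hu' : u = mkOne a := by rw [← hv, ha, map_mul, map_mul, map_inv]; rfl
  have a2 : a * a = negAut := sq_conj (isConj_iff.2 ⟨g, rfl⟩) fEl_sq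
  subst hu'
  have hcc : tAut * a = a * tAut := by
    have h : mkOne (tAut * a) = mkOne (a * tAut) := by rw [map_mul, map_mul]; exact hc.eq
    rcases mkOne_eq.1 h with e | e
    · exact e
    · refine absurd (isConj_iff.2 ⟨a⁻¹, ?_⟩) not_anti'
      rw [inv_inv, mul_assoc, e, negAut_comm, ← mul_assoc, ← mul_assoc, inv_mul_cancel, one_mul]
      exact (negAut_comm tAut).symm
  have h2 : tAut * a * (tAut * a) = negAut := by
    rw [show tAut * a * (tAut * a) = tAut * (a * tAut) * a by group, ← hcc,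
      show tAut * (tAut * a) * a = (tAut * tAut) * (a * a) by group, tAut_mul_self, one_mul, a2]
  rw [show zOne * mkOne a = mkOne (tAut * a) by rw [map_mul]; rfl]
  exact ((mkOne : Co0 →* Spor.Co1).map_isConj (four_conj h2)).symm

/-- The middle element of two involutions whose product has even order. -/
theorem mid_element {G : Type*} [Group G] [Finite G] {a c : G} (aa : a * a = 1) (cc : c * c = 1)
    (hne : ¬ IsConj a c) : ∃ r : G, r * r = 1 ∧ r ≠ 1 ∧ Commute r a ∧ Commute r c ∧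
      (IsConj a (a * r) ∨ IsConj c (a * r)) := by
  have ainv : a⁻¹ = a := inv_eq_of_mul_eq_one_right aa
  have cinv : c⁻¹ = c := inv_eq_of_mul_eq_one_right cc
  set d := a * c with hd
  have e : a * d * a⁻¹ = d⁻¹ := by rw [hd, mul_inv_rev, ainv, cinv, ← mul_assoc, aa, one_mul]
  have hada : ∀ r : ℕ, a * d ^ r * a = (d ^ r)⁻¹ := by
    intro r
    have := (conj_pow : (a * d * a⁻¹) ^ r = a * d ^ r * a⁻¹)
    rw [e, inv_pow, ainv] at this
    exact this.symm
  have h2 : c = a * d := by rw [hd, ← mul_assoc, aa, one_mul]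
  have hdc : d * c = a := by rw [hd, mul_assoc, cc, mul_one]
  rcases Nat.even_or_odd' (orderOf d) with ⟨m, he | he⟩
  · set r := d ^ m with hr
    have hm : m ≠ 0 := fun h0 => by have := orderOf_pos d; omega
    have rr : r * r = 1 := by rw [hr, ← pow_add, ← two_mul, ← he, pow_orderOf_eq_one]
    have rinv : r⁻¹ = r := inv_eq_of_mul_eq_one_right rr
    have r1 : r ≠ 1 := fun h1 => by
      have := orderOf_le_of_pow_eq_one (Nat.pos_of_ne_zero hm) h1
      omega
    have hra : Commute r a := by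
      have := hada m
      rw [← hr, rinv] at this
      show r * a = a * r
      conv_lhs => rw [← this, mul_assoc (a * r), aa, mul_one]
    refine ⟨r, rr, r1, hra, h2 ▸ hra.mul_right ((Commute.refl d).pow_left m), ?_⟩
    have hl : ∀ q, (d ^ q)⁻¹ * a = a * d ^ q := fun q => by rw [← hada q, mul_assoc, aa, mul_one]
    rcases Nat.even_or_odd' m with ⟨q, eq | eq⟩
    · refine Or.inl (isConj_iff.2 ⟨(d ^ q)⁻¹, ?_⟩)
      rw [inv_inv, hl, mul_assoc, ← pow_add, ← two_mul, ← eq]
    · refine Or.inr (isConj_iff.2 ⟨(d ^ q)⁻¹, ?_⟩)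
      rw [inv_inv, h2, ← mul_assoc (d ^ q)⁻¹, hl, mul_assoc a, mul_assoc, ← pow_succ, ← pow_add, hr, eq]
      congr 2; omega
  · refine absurd (isConj_iff.2 ⟨d ^ m, ?_⟩) hne
    have h3 : d ^ m * a = a * (d ^ m)⁻¹ := by rw [← hada m, ← mul_assoc, ← mul_assoc, aa, one_mul]
    have h4 : d ^ (2 * m + 1) = 1 := by rw [← he, pow_orderOf_eq_one]
    calc d ^ m * a * (d ^ m)⁻¹ = d ^ m * (a * (d ^ m)⁻¹) := mul_assoc ..
      _ = d ^ m * (d ^ m * a) := by rw [h3]
      _ = d ^ (2 * m + 1) * c := by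
        rw [← mul_assoc, ← pow_add, ← two_mul, pow_succ, mul_assoc (d ^ (2 * m)), hdc]
      _ = c := by rw [h4, one_mul]

/-! ### The endgame -/

section
variable {G : Type*} [Group G] [Finite G]

theorem kid_of_code (f : Spor.Co1 →* G) (hA : ∀ i < 2048, f (el i) ∈ {a : G | ∃ g : G, g * f zOne * g⁻¹ = a} ↔ oct i = true)
    {c : ℕ} (hc : c < 2048) (hco : oct c = true) (h1 : f (el (iA ^^^ c)) ≠ 1)
    (hx : f (el (iA ^^^ c)) ≠ f (el iD)) (ho : oct (iA ^^^ c) = false) (ho' : oct (iD ^^^ (iA ^^^ c)) = false) :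
    KidOk (signGrp.map f) {a : G | ∃ g : G, g * f zOne * g⁻¹ = a} (f (el iD)) (f (el (iA ^^^ c))) := by
  set A := {a : G | ∃ g : G, g * f zOne * g⁻¹ = a}
  set s := iA ^^^ c
  have hn := named_ok
  simp only [Bool.and_eq_true, Nat.blt_eq] at hn
  obtain ⟨⟨⟨-, hiD⟩, hiA⟩, -⟩ := hn
  have hs : s < 2048 := Nat.xor_lt_two_pow (n := 11) hiA hc
  have lt2 : ∀ {i j : ℕ}, i < 2048 → j < 2048 → i ^^^ j < 2048 := fun hi hj => Nat.xor_lt_two_pow (n := 11) hi hj
  have mul2 : ∀ {i j : ℕ}, i < 2048 → j < 2048 → f (el i) * f (el j) = f (el (i ^^^ j)) := fun hi hj => by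
    rw [← map_mul, el_mul hi hj]
  have hk := List.all_eq_true.1 kids_ok c (List.mem_range.2 hc)
  have hz : ¬ s = 0 := fun e => h1 (by rw [e, el_zero, map_one])
  have hd : ¬ s = iD := fun e => hx (by rw [e])
  simp only [kidOk] at hk
  rw [hco, ho, ho', beq_eq_false_iff_ne.2 hz, beq_eq_false_iff_ne.2 hd] at hk
  simp only [Bool.not_false, Bool.and_self, if_true] at hk
  split at hk
  case h_2 => exact absurd hk Bool.false_ne_true
  rename_i a b ha hb
  have sa := List.find?_some ha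
  have sb := List.find?_some hb
  have la := List.mem_range.1 (List.mem_of_find?_eq_some ha)
  have lb := List.mem_range.1 (List.mem_of_find?_eq_some hb)
  simp only [Bool.and_eq_true, beq_iff_eq] at sa sb
  refine ⟨f (el a), f (el b), ⟨⟨_, ⟨a, la, rfl⟩, rfl⟩, (hA a la).2 sa.1.1.1, ?_, ?_, ?_⟩,
    ⟨⟨_, ⟨b, lb, rfl⟩, rfl⟩, (hA b lb).2 sb.1.1.1, ?_, ?_, ?_⟩, ?_⟩
  · rw [mul2 la hiD]; exact (hA _ (lt2 la hiD)).2 sa.1.1.2
  · rw [mul2 la hs]; exact (hA _ (lt2 la hs)).2 sa.1.2
  · rw [mul2 hs hiD, mul2 la (lt2 hs hiD)]; exact (hA _ (lt2 la (lt2 hs hiD))).2 sa.2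
  · rw [mul2 lb hiD]
    intro h
    rw [(hA _ (lt2 lb hiD)).1 h] at sb
    exact Bool.noConfusion sb.1.1.2
  · rw [mul2 lb hs]; exact (hA _ (lt2 lb hs)).2 sb.1.2
  · rw [mul2 hs hiD, mul2 lb (lt2 hs hiD)]; exact (hA _ (lt2 lb (lt2 hs hiD))).2 sb.2
  rintro _ ⟨_, ⟨d, hdl, rfl⟩, rfl⟩ dA ds dsx
  rw [mul2 hdl hs] at ds
  rw [mul2 hs hiD, mul2 hdl (lt2 hs hiD)] at dsx
  have hr := List.all_eq_true.1 hk d (List.mem_range.2 hdl)
  rw [(hA d hdl).1 dA, (hA _ (lt2 hdl hs)).1 ds, (hA _ (lt2 hdl (lt2 hs hiD))).1 dsx] at hr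
  simp only [Bool.and_self, if_true, Bool.or_eq_true, beq_iff_eq] at hr
  rw [mul2 hs hiD, mul2 la hdl]
  have lad := lt2 la hdl
  rcases hr with ((((h | h) | h) | h) | (((h | h) | h) | h))
  · exact Or.inl (Or.inl (by rw [h, el_zero, map_one]))
  · exact Or.inl (Or.inr (Or.inl (by rw [h])))
  · exact Or.inl (Or.inr (Or.inr (Or.inl (by rw [h]))))
  · exact Or.inl (Or.inr (Or.inr (Or.inr (by rw [h]))))
  · exact Or.inr (Or.inl ((hA _ lad).2 h))
  · exact Or.inr (Or.inr (Or.inl (by rw [mul2 hiD lad]; exact (hA _ (lt2 hiD lad)).2 h)))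
  · exact Or.inr (Or.inr (Or.inr (Or.inl (by rw [mul2 hs lad]; exact (hA _ (lt2 hs lad)).2 h))))
  · exact Or.inr (Or.inr (Or.inr (Or.inr (by
      rw [mul2 (lt2 hs hiD) lad]; exact (hA _ (lt2 (lt2 hs hiD) lad)).2 h))))

/-- A group of Conway type containing the first Conway group with the whole centraliser of its
involution is that group. -/
theorem range_eq_top (f : Spor.Co1 →* G) (hf : Function.Injective f) {z t : G} {Q R : Subgroup G}
    {π π' : G → CoType.V8} {ρ ρ' : G → Classical.qAut CoType.qm} (C : CoType.Config z t Q R π π' ρ ρ')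
    (hz : f zOne = z) (hC : Subgroup.centralizer ({z} : Set G) ≤ f.range) : f.range = ⊤ := by
  classical
  set X := f.range with hX
  have zz : z * z = 1 := by rw [← hz, ← map_mul, zOne_sq, map_one]
  -- every involution is conjugate to one of the three
  have hcov : ∀ v : G, v * v = 1 → v ≠ 1 → IsConj v z ∨ IsConj v (f dOne) ∨ IsConj v (f fOne) := by
    intro v v2 v1
    obtain ⟨g, hg⟩ := C.P.S.conj_into v2
    obtain ⟨u, hu⟩ := hC hg
    have hu2 : u * u = 1 := hf (by
      rw [map_mul, hu, map_one, show g * v * g⁻¹ * (g * v * g⁻¹) = g * (v * v) * g⁻¹ by group, v2, mul_one,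
        mul_inv_cancel])
    have hu1 : u ≠ 1 := fun e => v1 (by
      rw [e, map_one] at hu
      exact conj_eq_one_iff.1 hu.symm)
    have hvu : IsConj v (f u) := isConj_iff.2 ⟨g, hu.symm⟩
    rcases one_classes hu2 hu1 with k | k | k
    · exact Or.inl (hz ▸ hvu.trans (f.map_isConj k))
    · exact Or.inr (Or.inl (hvu.trans (f.map_isConj k)))
    · exact Or.inr (Or.inr (hvu.trans (f.map_isConj k)))
  -- so the three are not fused
  obtain ⟨hzd, hzf, hdf⟩ : ¬ IsConj z (f dOne) ∧ ¬ IsConj z (f fOne) ∧ ¬ IsConj (f dOne) (f fOne) := by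
    obtain ⟨x₀, hx₀⟩ := C.P.exists_typeC false
    obtain ⟨x₁, hx₁⟩ := C.P.exists_typeC true
    simp only [Bool.false_eq_true, if_false, if_true] at hx₀ hx₁
    obtain ⟨a₀, b₀, -, -, -, -, -, h₀, -⟩ := id hx₀
    obtain ⟨a₁, b₁, -, -, -, -, -, h₁, -⟩ := id hx₁
    have n₀ : ¬ IsConj z x₀ := C.not_conj_z hx₀
    have n₁ : ¬ IsConj z x₁ := C.not_conj_z hx₁
    have n₂ : ¬ IsConj x₀ x₁ := C.not_conj01 hx₀ hx₁
    have z1 : z ≠ 1 := fun e => zOne_ne_one (hf (by rw [hz, e, map_one]))
    have two : ∀ A B : G, (∀ v : G, v * v = 1 → v ≠ 1 → IsConj v A ∨ IsConj v B) → False := by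
      intro A B h
      have x₀1 : x₀ ≠ 1 := fun e => by
        have := (C.typeC_basic hx₀).2.2.1
        exact this (e ▸ one_mem _)
      have x₁1 : x₁ ≠ 1 := fun e => by
        have := (C.typeC_basic hx₁).2.2.1
        exact this (e ▸ one_mem _)
      rcases h z zz z1 with a | a <;> rcases h x₀ h₀ x₀1 with b | b <;>
        rcases h x₁ h₁ x₁1 with c | c
      all_goals first
        | exact n₀ (a.trans b.symm) | exact n₁ (a.trans c.symm) | exact n₂ (b.trans c.symm)
    refine ⟨fun h => two z (f fOne) fun v v2 v1 => ?_, fun h => two z (f dOne) fun v v2 v1 => ?_,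
      fun h => two z (f dOne) fun v v2 v1 => ?_⟩
    all_goals rcases hcov v v2 v1 with k | k | k
    all_goals first
      | exact Or.inl k | exact Or.inr k | exact Or.inl (k.trans h.symm) | exact Or.inr (k.trans h.symm)
  -- fusion in the image
  have hfus : ∀ {g : G} {w : Spor.Co1}, w * w = 1 → w ≠ 1 →
      (IsConj w zOne ∨ IsConj w dOne) → g * f w * g⁻¹ ∈ X → ∃ y ∈ X, y * f w * y⁻¹ = g * f w * g⁻¹ := by
    intro g w w2 w1 hw hg
    obtain ⟨u, hu⟩ := hg
    have hu2 : u * u = 1 := hf (by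
      rw [map_mul, hu, map_one, show g * f w * g⁻¹ * (g * f w * g⁻¹) = g * (f w * f w) * g⁻¹ by group,
        ← map_mul, w2, map_one, mul_one, mul_inv_cancel])
    have hu1 : u ≠ 1 := fun e => w1 (hf (by
      rw [e, map_one] at hu
      rw [map_one]; exact conj_eq_one_iff.1 hu.symm))
    have hwu : IsConj (f w) (f u) := isConj_iff.2 ⟨g, hu.symm⟩
    have hres : IsConj w u := by
      rcases hw with k | k <;> rcases one_classes hu2 hu1 with l | l | l
      · exact k.trans l.symm
      · exact absurd (((f.map_isConj k).symm.trans hwu).trans (f.map_isConj l)) (by rw [hz]; exact hzd)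
      · exact absurd (((f.map_isConj k).symm.trans hwu).trans (f.map_isConj l)) (by rw [hz]; exact hzf)
      · exact absurd (((f.map_isConj k).symm.trans hwu).trans (f.map_isConj l))
          (by show ¬ IsConj (f dOne) (f zOne); rw [hz]; exact fun e => hzd e.symm)
      · exact k.trans l.symm
      · exact absurd (((f.map_isConj k).symm.trans hwu).trans (f.map_isConj l)) hdf
    obtain ⟨v, hv⟩ := isConj_iff.1 hres
    exact ⟨f v, ⟨v, rfl⟩, by rw [← map_inv, ← map_mul, ← map_mul, hv, hu]⟩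
  set A := {a : G | ∃ g : G, g * f zOne * g⁻¹ = a} with hA
  have K : Ctrl A X := Ctrl.of_fusion (by rw [← map_mul, zOne_sq, map_one]) (by rwa [hz])
    fun g hg => hfus zOne_sq zOne_ne_one (Or.inl (IsConj.refl _)) hg
  have hAel : ∀ i < 2048, f (el i) ∈ A ↔ oct i = true := by
    intro i hi
    rw [← el_class hi]
    constructor
    · rintro ⟨g, hg⟩
      obtain ⟨y, ⟨v, rfl⟩, hy⟩ := hfus (g := g) zOne_sq zOne_ne_one (Or.inl (IsConj.refl _))
        (hg ▸ ⟨el i, rfl⟩)
      refine isConj_iff.2 ⟨v, hf ?_⟩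
      rw [map_mul, map_mul, map_inv, hy, hg]
    · intro h
      obtain ⟨v, hv⟩ := isConj_iff.1 h
      exact ⟨f v, by rw [← hv, map_mul, map_mul, map_inv]⟩
  -- the centraliser of the dodecad element
  have hn := named_ok
  simp only [Bool.and_eq_true, Nat.blt_eq, Bool.not_eq_true'] at hn
  obtain ⟨⟨⟨⟨⟨⟨⟨-, oA⟩, oAD⟩, oB⟩, oBD⟩, hiD⟩, hiA⟩, hiB⟩ := hn
  have mul2 : ∀ {i j : ℕ}, i < 2048 → j < 2048 → f (el i) * f (el j) = f (el (i ^^^ j)) := fun hi hj => by
    rw [← map_mul, el_mul hi hj]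
  have hd : Subgroup.centralizer ({f dOne} : Set G) ≤ X := by
    rw [← el_iD]
    refine cent_le K (E := signGrp.map f) (Subgroup.map_le_range f _) ?_ ⟨_, ⟨iD, hiD, rfl⟩, rfl⟩ ?_
      (a := f (el iA)) (b := f (el iB)) ⟨_, ⟨iA, hiA, rfl⟩, rfl⟩ ((hAel iA hiA).2 oA) ?_
      ⟨_, ⟨iB, hiB, rfl⟩, rfl⟩ ((hAel iB hiB).2 oB) ?_ ?_
    · rintro _ ⟨_, ⟨i, hi, rfl⟩, rfl⟩
      rw [← map_mul, el_sq hi, map_one]
    · rintro _ ⟨v, rfl⟩ hv _ ⟨e, he, rfl⟩
      refine ⟨v * e * v⁻¹, norm_sign (hf ?_) he, by rw [map_mul, map_mul, map_inv]⟩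
      rw [map_mul, map_mul, ← el_iD]
      exact hv.eq
    · rw [mul2 hiA hiD]; exact (hAel _ (Nat.xor_lt_two_pow (n := 11) hiA hiD)).2 oAD
    · rw [mul2 hiB hiD]
      intro h
      rw [(hAel _ (Nat.xor_lt_two_pow (n := 11) hiB hiD)).1 h] at oBD
      exact Bool.noConfusion oBD
    · rintro _ ⟨_, ⟨c, hc, rfl⟩, rfl⟩ cA h1 hx ho ho'
      have lac : iA ^^^ c < 2048 := Nat.xor_lt_two_pow (n := 11) hiA hc
      rw [mul2 hiA hc] at h1 hx ho ho' ⊢
      rw [mul2 hiD lac] at ho'
      exact kid_of_code f hAel hc ((hAel c hc).1 cA) h1 hx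
        (Bool.eq_false_iff.2 fun h => ho ((hAel _ lac).2 h))
        (Bool.eq_false_iff.2 fun h => ho' ((hAel _ (Nat.xor_lt_two_pow (n := 11) hiD lac)).2 h))
  -- all conjugates of the dodecad element lie in the image
  have d2 : f dOne * f dOne = 1 := by rw [← map_mul, dOne_sq, map_one]
  refine eq_top_iff.2 fun g _ => ?_
  have hcX : g * f dOne * g⁻¹ ∈ X := by
    by_contra hcX
    set c := g * f dOne * g⁻¹ with hc
    have hcd : IsConj (f dOne) c := isConj_iff.2 ⟨g, rfl⟩
    obtain ⟨r, rr, r1, hrz, hrc, hcase⟩ := mid_element (a := z) (c := c) zz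
      (by rw [hc, show g * f dOne * g⁻¹ * (g * f dOne * g⁻¹) = g * (f dOne * f dOne) * g⁻¹ by group, d2,
        mul_one, mul_inv_cancel]) (fun h => hzd (h.trans hcd.symm))
    obtain ⟨u, rfl⟩ : r ∈ X := hC (Subgroup.mem_centralizer_singleton_iff.2 hrz.eq)
    have hu2 : u * u = 1 := hf (by rw [map_mul, rr, map_one])
    have hu1 : u ≠ 1 := fun e => r1 (by rw [e, map_one])
    rcases one_classes hu2 hu1 with k | k | k
    · refine hcX (K.cent (a := f u) ?_ ⟨u, rfl⟩ hrc.symm)
      obtain ⟨v, hv⟩ := isConj_iff.1 k.symm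
      exact ⟨f v, by rw [← hv, map_mul, map_mul, map_inv]⟩
    · obtain ⟨v, hv⟩ := isConj_iff.1 k.symm
      have hc' : (f v)⁻¹ * c * f v ∈ X := hd (Subgroup.mem_centralizer_singleton_iff.2 (by
        have hfu : f u = f v * f dOne * (f v)⁻¹ := by
          rw [show dOne = mkOne dEl from rfl, ← map_inv, ← map_mul, ← map_mul, hv]
        have e := hrc.eq
        rw [hfu] at e
        calc (f v)⁻¹ * c * f v * f dOne = (f v)⁻¹ * (c * (f v * f dOne * (f v)⁻¹)) * f v := by group
          _ = (f v)⁻¹ * (f v * f dOne * (f v)⁻¹ * c) * f v := by rw [e]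
          _ = f dOne * ((f v)⁻¹ * c * f v) := by group))
      have := mul_mem (mul_mem (⟨v, rfl⟩ : f v ∈ X) hc') (inv_mem ⟨v, rfl⟩)
      rw [show f v * ((f v)⁻¹ * c * f v) * (f v)⁻¹ = c by group] at this
      exact hcX this
    · have hzu : Commute zOne u := hf (by rw [map_mul, map_mul, hz]; exact hrz.eq.symm)
      have h4 : IsConj (f fOne) (z * f u) := by
        rw [← hz, ← map_mul]
        exact f.map_isConj (z_mul_four k.symm hzu)
      rcases hcase with h | h
      · exact hzf (h.trans h4.symm)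
      · exact hdf ((hcd.trans h).trans h4.symm)
  obtain ⟨y, hy, hy'⟩ := hfus dOne_sq (mkOne_ne_one dEl_ne.1 dEl_ne.2) (Or.inr (IsConj.refl _)) hcX
  have : y⁻¹ * g ∈ X := hd (Subgroup.mem_centralizer_singleton_iff.2 (by
    calc y⁻¹ * g * f dOne = y⁻¹ * (g * f dOne * g⁻¹) * g := by group
      _ = y⁻¹ * (y * f dOne * y⁻¹) * g := by rw [hy']
      _ = f dOne * (y⁻¹ * g) := by group))
  simpa using mul_mem hy this

end

end CfsgLib.CoOne
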