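import Cfsg.Agent.Lib.HNRec.Recur

/-!
# The centraliser of a dodecad involution stays inside a subgroup controlling the class

An elementary abelian subgroup `E` of `X`, normalised by the centraliser of `x` in `X`; two levels of
the recursion, all inside `E`: at the root two elements of the class told apart by the translate by
`x`, below them two told apart by their translates by the four-group.
-/

set_option autoImplicit false

namespace CfsgLib.CoOne

open CfsgLib.HNRec

variable {G : Type*} [Group G]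

/-- The group of order at most two. -/
def pairGrp (x : G) (hx : x * x = 1) : Subgroup G where
  carrier := {g | g = 1 ∨ g = x}
  one_mem' := Or.inl rfl
  mul_mem' := by
    rintro g h (rfl | rfl) (rfl | rfl)
    exacts [Or.inl (one_mul _), Or.inr (one_mul _), Or.inr (mul_one _), Or.inl hx]
  inv_mem' := by
    rintro g (rfl | rfl)
    exacts [Or.inl inv_one, Or.inr (inv_eq_of_mul_eq_one_right hx)]

/-- The four-group of two commuting involutions. -/
def fourGrp (x s : G) (hx : x * x = 1) (hs : s * s = 1) (hc : Commute x s) : Subgroup G where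
  carrier := {g | g = 1 ∨ g = x ∨ g = s ∨ g = s * x}
  one_mem' := Or.inl rfl
  mul_mem' := by
    have e1 : x * (s * x) = s := by rw [← mul_assoc, hc.eq, mul_assoc, hx, mul_one]
    have e2 : s * (s * x) = x := by rw [← mul_assoc, hs, one_mul]
    have e3 : s * x * x = s := by rw [mul_assoc, hx, mul_one]
    have e4 : s * x * s = x := by rw [mul_assoc, hc.eq, ← mul_assoc, hs, one_mul]
    have e5 : s * x * (s * x) = 1 := by rw [← mul_assoc, e4, hx]
    rintro g h (rfl | rfl | rfl | rfl) (rfl | rfl | rfl | rfl)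
    all_goals simp only [Set.mem_ofPred_eq, one_mul, mul_one, e1, e2, e3, e4, e5, hx, hs, hc.eq]
    all_goals simp
  inv_mem' := by
    rintro g (rfl | rfl | rfl | rfl)
    · exact Or.inl inv_one
    · exact Or.inr (Or.inl (inv_eq_of_mul_eq_one_right hx))
    · exact Or.inr (Or.inr (Or.inl (inv_eq_of_mul_eq_one_right hs)))
    · refine Or.inr (Or.inr (Or.inr ?_))
      rw [mul_inv_rev, inv_eq_of_mul_eq_one_right hx, inv_eq_of_mul_eq_one_right hs, hc.eq]

variable {A : Set G} {X : Subgroup G}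

/-- What is checked inside `E` below the root. -/
def KidOk (E : Subgroup G) (A : Set G) (x s : G) : Prop :=
  ∃ a b : G, (a ∈ E ∧ a ∈ A ∧ a * x ∈ A ∧ a * s ∈ A ∧ a * (s * x) ∈ A) ∧
    (b ∈ E ∧ b ∈ A ∧ b * x ∉ A ∧ b * s ∈ A ∧ b * (s * x) ∈ A) ∧
    ∀ c ∈ E, c ∈ A → c * s ∈ A → c * (s * x) ∈ A →
      (a * c = 1 ∨ a * c = x ∨ a * c = s ∨ a * c = s * x) ∨
        (a * c ∈ A ∨ x * (a * c) ∈ A ∨ s * (a * c) ∈ A ∨ s * x * (a * c) ∈ A)

/-- The second level of the recursion. -/
theorem kid_le [Finite G] (K : Ctrl A X) {E : Subgroup G} (hEX : E ≤ X) (h2 : ∀ e ∈ E, e * e = 1)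
    {x s : G} (hx : x ∈ E) (hs : s ∈ E) (hn : ∀ k ∈ X, Commute k x → ∀ e ∈ E, k * e * k⁻¹ ∈ E)
    (hk : KidOk E A x s) {g : G} (hgx : Commute g x) (hgs : g * s * g⁻¹ = s ∨ g * s * g⁻¹ = s * x) :
    g ∈ X := by
  obtain ⟨a, b, ⟨haE, haA, hax, has, hasx⟩, ⟨hbE, hbA, hbx, hbs, hbsx⟩, hc⟩ := hk
  have comm : ∀ u ∈ E, ∀ v ∈ E, Commute u v := fun u hu v hv =>
    calc u * v = (u * v)⁻¹ := (inv_eq_of_mul_eq_one_right (h2 _ (mul_mem hu hv))).symm
      _ = v * u := by
        rw [mul_inv_rev, inv_eq_of_mul_eq_one_right (h2 u hu), inv_eq_of_mul_eq_one_right (h2 v hv)]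
  set F := fourGrp x s (h2 x hx) (h2 s hs) (comm x hx s hs) with hF
  have hFE : F ≤ E := by
    rintro e (rfl | rfl | rfl | rfl)
    exacts [one_mem _, hx, hs, mul_mem hs hx]
  let H : Subgroup G :=
    { carrier := {g | Commute g x ∧ (g * s * g⁻¹ = s ∨ g * s * g⁻¹ = s * x)}
      one_mem' := ⟨Commute.one_left x, Or.inl (by simp)⟩
      mul_mem' := by
        rintro g h ⟨gx, gs⟩ ⟨hx', hs'⟩
        refine ⟨gx.mul_left hx', ?_⟩
        rw [show g * h * s * (g * h)⁻¹ = g * (h * s * h⁻¹) * g⁻¹ by group]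
        rcases hs' with e | e <;> rw [e]
        · exact gs
        · rw [show g * (s * x) * g⁻¹ = (g * s * g⁻¹) * (g * x * g⁻¹) by group, gx.eq, mul_inv_cancel_right]
          rcases gs with e' | e' <;> rw [e']
          · exact Or.inr rfl
          · exact Or.inl (by rw [mul_assoc, h2 x hx, mul_one])
      inv_mem' := by
        rintro g ⟨gx, gs⟩
        refine ⟨gx.inv_left, ?_⟩
        rw [inv_inv]
        rcases gs with e | e
        · exact Or.inl (by conv_lhs => rw [← e]
                           group)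
        · refine Or.inr ?_
          have : g⁻¹ * s * g = (g⁻¹ * (g * s * g⁻¹) * g) * (g⁻¹ * x * g)⁻¹ := by rw [e]; group
          rw [this, gx.inv_left.eq]
          group
          rw [zpow_neg_one, inv_eq_of_mul_eq_one_right (h2 x hx)] }
  suffices H ≤ X from this ⟨hgx, hgs⟩
  have hnF : ∀ k ∈ H, ∀ e ∈ F, k * e * k⁻¹ ∈ F := by
    rintro k ⟨kx, ks⟩ e (rfl | rfl | rfl | rfl)
    · exact Or.inl (by simp)
    · exact Or.inr (Or.inl (by rw [kx.eq, mul_inv_cancel_right]))
    · rcases ks with e | e <;> rw [e]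
      exacts [Or.inr (Or.inr (Or.inl rfl)), Or.inr (Or.inr (Or.inr rfl))]
    · rw [show k * (s * x) * k⁻¹ = (k * s * k⁻¹) * (k * x * k⁻¹) by group, kx.eq, mul_inv_cancel_right]
      rcases ks with e | e <;> rw [e]
      · exact Or.inr (Or.inr (Or.inr rfl))
      · exact Or.inr (Or.inr (Or.inl (by rw [mul_assoc, h2 x hx, mul_one])))
  have inH : ∀ e ∈ E, e ∈ H := fun e he =>
    ⟨comm e he x hx, Or.inl (by rw [(comm e he s hs).eq, mul_inv_cancel_right])⟩
  -- the translates of a conjugate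
  have move : ∀ u : G, u * s ∈ A → u * (s * x) ∈ A → ∀ k ∈ H,
      (k * u * k⁻¹) * s ∈ A ∧ (k * u * k⁻¹) * (s * x) ∈ A := by
    rintro u hu hu' k ⟨kx, ks⟩
    have h1 := K.conj _ hu k
    have h2' := K.conj _ hu' k
    rw [show k * (u * s) * k⁻¹ = (k * u * k⁻¹) * (k * s * k⁻¹) by group] at h1
    rw [show k * (u * (s * x)) * k⁻¹ = (k * u * k⁻¹) * ((k * s * k⁻¹) * (k * x * k⁻¹)) by group, kx.eq,
      mul_inv_cancel_right] at h2'
    rcases ks with e | e <;> rw [e] at h1 h2'
    · exact ⟨h1, h2'⟩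
    · rw [mul_assoc s x x, h2 x hx, mul_one] at h2'
      exact ⟨h2', h1⟩
  refine K.step (le_trans hFE hEX) hnF haA (inH a haE) (hEX haE) hbA (inH b hbE) (hEX hbE)
    (fun k kH kX hkF => ?_) (fun s' s'H s'X s'F _ hcon k kH hks => ?_)
  · have kx : Commute k x := kH.1
    have cx : k * a * k⁻¹ * x ∈ A := by
      have := K.conj _ hax k
      rwa [show k * (a * x) * k⁻¹ = (k * a * k⁻¹) * (k * x * k⁻¹) by group, kx.eq, mul_inv_cancel_right] at this
    obtain ⟨cs, csx⟩ := move a has hasx k kH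
    have cE : k * a * k⁻¹ ∈ E := hn k kX kx a haE
    have cA : k * a * k⁻¹ ∈ A := K.conj a haA k
    refine hbx ?_
    set c := k * a * k⁻¹
    set e := c * b⁻¹ with he
    have eE : e ∈ E := hFE hkF
    have hb' : b * x = c * (e * x) := by
      rw [show b = e⁻¹ * c by rw [he]; group, inv_eq_of_mul_eq_one_right (h2 e eE), (comm e eE c cE).eq,
        mul_assoc]
    rw [hb']
    rcases hkF with h | h | h | h <;> rw [h]
    · rwa [one_mul]
    · rwa [h2 x hx, mul_one]
    · exact csx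
    · rwa [mul_assoc s x x, h2 x hx, mul_one]
  · obtain ⟨k', k'H, k'X, hk'⟩ := hcon
    obtain ⟨ce, cs, csx⟩ : a * s' ∈ E ∧ a * s' * s ∈ A ∧ a * s' * (s * x) ∈ A := by
      rcases hk' with e | e <;> rw [← e]
      · exact ⟨hn k' k'X k'H.1 a haE, move a has hasx k' k'H⟩
      · exact ⟨hn k' k'X k'H.1 b hbE, move b hbs hbsx k' k'H⟩
    have cA : a * s' ∈ A := by
      rcases hk' with e | e <;> rw [← e]
      exacts [K.conj a haA k', K.conj b hbA k']
    have es : a * (a * s') = s' := by rw [← mul_assoc, h2 a haE, one_mul]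
    rcases hc _ ce cA cs csx with h | h <;> rw [es] at h
    · exact absurd h s'F
    · rcases h with h | h | h | h
      · exact K.coset_mem (le_trans hFE hEX) s'X (one_mem F) (by rwa [one_mul]) (hnF k kH) hks
      · exact K.coset_mem (le_trans hFE hEX) s'X (e := x) (Or.inr (Or.inl rfl)) h (hnF k kH) hks
      · exact K.coset_mem (le_trans hFE hEX) s'X (e := s) (Or.inr (Or.inr (Or.inl rfl))) h (hnF k kH) hks
      · exact K.coset_mem (le_trans hFE hEX) s'X (e := s * x) (Or.inr (Or.inr (Or.inr rfl))) h (hnF k kH) hks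

/-- The centraliser of `x` lies in `X`. -/
theorem cent_le [Finite G] (K : Ctrl A X) {E : Subgroup G} (hEX : E ≤ X) (h2 : ∀ e ∈ E, e * e = 1)
    {x : G} (hx : x ∈ E) (hn : ∀ k ∈ X, Commute k x → ∀ e ∈ E, k * e * k⁻¹ ∈ E) {a b : G}
    (haE : a ∈ E) (haA : a ∈ A) (hax : a * x ∈ A) (hbE : b ∈ E) (hbA : b ∈ A) (hbx : b * x ∉ A)
    (hkid : ∀ c ∈ E, c ∈ A → a * c ≠ 1 → a * c ≠ x → a * c ∉ A → x * (a * c) ∉ A → KidOk E A x (a * c)) :
    Subgroup.centralizer ({x} : Set G) ≤ X := by
  set H := Subgroup.centralizer ({x} : Set G)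
  have inH : ∀ e ∈ E, e ∈ H := fun e he => Subgroup.mem_centralizer_singleton_iff.2 (by
    have h := h2 _ (mul_mem he hx)
    calc e * x = (e * x)⁻¹ := (inv_eq_of_mul_eq_one_right h).symm
      _ = x * e := by
        rw [mul_inv_rev, inv_eq_of_mul_eq_one_right (h2 x hx), inv_eq_of_mul_eq_one_right (h2 e he)])
  set F := pairGrp x (h2 x hx)
  have hFE : F ≤ E := by
    rintro e (rfl | rfl)
    exacts [one_mem _, hx]
  have hcomm : ∀ k ∈ H, Commute k x := fun k hk => Subgroup.mem_centralizer_singleton_iff.1 hk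
  have hnF : ∀ k ∈ H, ∀ e ∈ F, k * e * k⁻¹ ∈ F := by
    rintro k hk e (rfl | rfl)
    · exact Or.inl (by simp)
    · exact Or.inr (by rw [(hcomm k hk).eq, mul_inv_cancel_right])
  refine K.step (le_trans hFE hEX) hnF haA (inH a haE) (hEX haE) hbA (inH b hbE) (hEX hbE)
    (fun k kH kX hkF => ?_) (fun s sH sX sF sq hcon k kH hks => ?_)
  · have cx : k * a * k⁻¹ * x ∈ A := by
      have := K.conj _ hax k
      rwa [show k * (a * x) * k⁻¹ = (k * a * k⁻¹) * (k * x * k⁻¹) by group, (hcomm k kH).eq,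
        mul_inv_cancel_right] at this
    refine hbx ?_
    set c := k * a * k⁻¹
    rcases hkF with h | h
    · rwa [← mul_inv_eq_one.1 h]
    · have cE : c ∈ E := hn k kX (hcomm k kH) a haE
      rw [show b = (c * b⁻¹)⁻¹ * c by group, h, inv_eq_of_mul_eq_one_right (h2 x hx),
        (Subgroup.mem_centralizer_singleton_iff.1 (inH c cE)).symm, mul_assoc, h2 x hx, mul_one]
      exact K.conj a haA k
  · obtain ⟨k', k'H, k'X, hk'⟩ := hcon
    obtain ⟨cE, cA⟩ : a * s ∈ E ∧ a * s ∈ A := by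
      rcases hk' with e | e <;> rw [← e]
      exacts [⟨hn k' k'X (hcomm k' k'H) a haE, K.conj a haA k'⟩,
        ⟨hn k' k'X (hcomm k' k'H) b hbE, K.conj b hbA k'⟩]
    have es : a * (a * s) = s := by rw [← mul_assoc, h2 a haE, one_mul]
    by_cases hA : s ∈ A
    · exact K.coset_mem (le_trans hFE hEX) sX (one_mem F) (by rwa [one_mul]) (hnF k kH) hks
    by_cases hA' : x * s ∈ A
    · exact K.coset_mem (le_trans hFE hEX) sX (e := x) (Or.inr rfl) hA' (hnF k kH) hks
    have hk := hkid (a * s) cE cA (by rw [es]; exact fun e => sF (Or.inl e))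
      (by rw [es]; exact fun e => sF (Or.inr e)) (by rwa [es]) (by rwa [es])
    rw [es] at hk
    refine kid_le K hEX h2 hx (es ▸ mul_mem haE cE) hn hk (hcomm k kH) ?_
    rcases hks with e | e
    · exact Or.inl (mul_inv_eq_one.1 e)
    · refine Or.inr ?_
      rw [(Subgroup.mem_centralizer_singleton_iff.1 sH)]
      exact mul_inv_eq_iff_eq_mul.1 e

end CfsgLib.CoOne
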